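import Mathlib.Data.Nat.Notation

/-!
Certificates for a Sylow subgroup of `Co₀` inside the monomial group, and for some fusion of
code involutions.
-/

set_option autoImplicit false

namespace Cfsg.Agent.Co0Std

/-- The words of the generators, by level. -/
def genWords : List (List ℕ) :=
  [[56, 1, 1, 2, 105, 41, 135, 56, 56, 91, 91, 191, 147, 105, 147, 135], [41, 7, 2, 7, 41, 7, 176, 66, 56, 135, 83, 163, 176, 105, 176, 176, 147, 135], [135, 41, 2, 91, 7, 176, 56, 56, 118, 91, 83, 135, 118, 191, 163, 147], [91, 7, 2, 56, 7, 176, 66, 83, 91, 191, 135, 105, 176, 163], [194], [147, 41, 2, 66, 7, 135, 66, 83, 83, 83, 176, 176, 191, 163, 147, 135], [2, 1, 2, 135, 66, 118, 135, 83, 191, 147, 105, 176, 176, 191, 163, 147, 135], [91, 7, 2, 135, 41, 66, 56, 56, 163, 83, 135, 118, 191, 147], [1616], [66, 7, 2, 56, 49, 7, 191, 66, 91, 91, 83, 147, 105, 191, 147], [2, 1, 2, 41, 7, 105, 66, 163, 176, 83, 163, 105, 176, 176, 163], [400], [3728], [66, 7, 2, 41, 7, 66, 66, 118, 105, 176, 176, 147, 135], [827], [2758], [2896], [1446], [3004], [308], [2883], [4171]]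

/-- The levels. -/
def levels : List ℕ :=
  [0, 0, 0, 0, 0, 1, 1, 1, 1, 2, 2, 2, 2, 3, 3, 3, 4, 4, 5, 5, 6, 7]

/-- Commutators as products of deeper generators. -/
def commTab : List (List (List ℕ)) :=
  [[[], [6, 7, 9], [6, 7, 13], [5, 7, 9, 10, 13], [8, 11], [9, 10, 13], [9, 10, 13], [10], [11], [13], [13], [], [14, 16], [], [16, 18], [17, 18, 19], [18], [19], [], [], [21], []], [[6, 7, 9], [], [6, 10, 13], [5, 6, 7, 10, 13], [8, 11, 14, 17, 19, 21], [10, 13], [9, 10, 13], [10], [11, 12, 14, 15, 16, 17, 18, 19], [13], [13], [15, 17], [14, 16, 20, 21], [], [16, 18, 21], [17, 18, 19, 20, 21], [18, 19, 20, 21], [20], [20, 21], [], [21], []], [[6, 7, 13], [6, 10, 13], [], [6, 7, 10, 13], [15, 16, 17, 18, 21], [9, 10, 13], [10], [], [12, 15, 16, 17, 18, 20, 21], [13], [], [15, 20], [14, 15, 16, 17, 18, 19, 20], [], [16, 17, 19], [16, 17, 19, 20, 21], [18], [18, 21], [20], [], [21], []], [[5, 7, 9, 10], [5, 6, 7, 10], [6, 7, 10, 13], [], [8, 11, 12, 15, 20], [9], [], [10], [12, 14, 19], [], [], [15, 16, 17, 18, 20, 21], [21], [], [16, 18, 19, 20], [16], [19], [18, 20, 21], [20, 21], [], [], []], [[8, 11], [8, 11, 14, 17, 19, 21], [15, 16, 17, 18, 21], [8, 11, 12, 15, 20], [], [11, 12, 14, 15, 16, 17, 20], [12, 14, 15, 17, 18, 19, 20], [16, 17, 19], [], [15, 16, 17, 19], [14,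 15, 16, 17, 20, 21], [], [], [16, 17, 19, 20], [], [], [], [], [], [], [], []], [[9, 10, 13], [10, 13], [9, 10, 13], [9], [11, 12, 14, 15, 16, 17, 20], [], [], [13], [16, 18, 19, 20, 21], [], [], [16, 18, 19], [16], [], [18, 19, 20, 21], [], [], [20, 21], [], [], [], []], [[9, 10, 13], [9, 10, 13], [10], [], [12, 14, 15, 17, 18, 19, 20], [], [], [], [16, 18, 19, 20, 21], [], [], [16, 18, 19], [], [], [19, 20, 21], [19], [], [20, 21], [], [], [], []], [[10], [10], [], [10], [16, 17, 19], [13], [], [], [14, 15, 18, 20, 21], [], [], [16, 17, 19, 20], [21], [], [21], [], [20], [20], [21], [], [], []], [[11], [11, 12, 14, 15, 16, 17, 18, 19], [12, 15, 16, 17, 18, 20, 21], [12, 14, 19], [], [16, 18, 19, 20, 21], [16, 18, 19, 20, 21], [14, 15, 18, 20, 21], [], [16, 18, 19, 20, 21], [18, 19, 20, 21], [], [], [18, 19, 21], [], [], [], [], [], [], [], []], [[13], [13], [13], [], [15, 16, 17, 19], [], [], [], [16, 18, 19, 20, 21], [], [], [19], [19], [], [20, 21], [], [], [], [], [], [], []], [[13], [13], [], [], [14, 15, 16, 17, 20, 21], [], [], [], [18, 19, 20, 21], [], [], [18, 19], [], [], [20, 21], [20], [], [21], [], [], [], []], [[], [15, 17], [15, 20], [15, 16, 17, 18, 20, 21], [], [16, 18, 19], [16, 18, 19], [16, 17, 19, 20], [], [19], [18, 19], [], [], [], [], [], [], [],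 [], [], [], []], [[14, 16], [14, 16, 20, 21], [14, 15, 16, 17, 18, 19, 20], [21], [], [16], [], [21], [], [19], [], [], [], [20], [], [], [], [], [], [], [], []], [[], [], [], [], [16, 17, 19, 20], [], [], [], [18, 19, 21], [], [], [], [20], [], [21], [], [], [], [], [], [], []], [[16, 18], [16, 18, 21], [16, 17, 19], [16, 18, 19, 20], [], [18, 19, 20, 21], [19, 20, 21], [21], [], [20, 21], [20, 21], [], [], [21], [], [], [], [], [], [], [], []], [[17, 18, 19], [17, 18, 19, 20, 21], [16, 17, 19, 20, 21], [16], [], [], [19], [], [], [], [20], [], [], [], [], [], [], [], [], [], [], []], [[18], [18, 19, 20, 21], [18], [19], [], [], [], [20], [], [], [], [], [], [], [], [], [], [], [], [], [], []], [[19], [20], [18, 21], [18, 20, 21], [], [20, 21], [20, 21], [20], [], [], [21], [], [], [], [], [], [], [], [], [], [], []], [[], [20, 21], [20], [20, 21], [], [], [], [21], [], [], [], [], [], [], [], [], [], [], [], [], [], []], [[], [], [], [], [], [], [], [], [], [], [], [], [], [], [], [], [], [], [], [], [], []], [[21], [21], [21], [], [], [], [], [], [], [], [], [], [], [], [], [], [], [], [], [], [], []], [[], [], [], [], [], [], [], [], [], [], [], [], [], [], [], [], [], [], [], [], [], []]]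

/-- Squares as products of deeper generators. -/
def sqTab : List (List ℕ) :=
  [[5, 6], [5, 7, 9, 13], [7], [6], [], [], [], [], [], [], [], [], [], [], [], [], [], [], [], [], [], []]

/-- The first five generators without signs. -/
def permGensA : List ℕ := [0, 1, 2, 3, 5]

/-- The other five. -/
def permGensB : List ℕ := [6, 7, 9, 10, 13]

/-- The products of the first five. -/
def permTabsA : List (List (ℕ × Bool)) :=
  [[(0, false), (1, false), (2, false), (3, false), (4, false), (5, false), (6, false), (7, false), (8, false), (9, false), (10, false), (11, false), (12, false), (13, false), (14, false), (15, false), (16, false), (17, false), (18, false), (19, false), (20, false), (21, false), (22, false), (23, false)],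
   [(17, false), (14, false), (20, false), (11, false), (6, false), (18, false), (16, false), (21, false), (12, false), (3, false), (15, false), (23, false), (8, false), (4, false), (1, false), (10, false), (13, false), (0, false), (2, false), (22, false), (5, false), (19, false), (7, false), (9, false)],
   [(10, false), (8, false), (5, false), (0, false), (4, false), (13, false), (2, false), (3, false), (9, false), (21, false), (19, false), (22, false), (14, false), (6, false), (7, false), (17, false), (18, false), (11, false), (16, false), (23, false), (20, false), (15, false), (1, false), (12, false)],
   [(15, false), (12, false), (18, false), (17, false), (6, false), (4, false), (20, false), (11, false), (3, false), (19, false), (22, false), (7, false), (1, false), (16, false), (21, false), (0, false), (2, false), (23, false), (13, false), (9, false), (5, false), (10, false), (14, false), (8, false)],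
   [(22, false), (23, false), (16, false), (9, false), (6, false), (20, false), (4, false), (10, false), (15, false), (8, false), (0, false), (17, false), (21, false), (18, false), (12, false), (3, false), (2, false), (1, false), (13, false), (14, false), (5, false), (19, false), (7, false), (11, false)],
   [(7, false), (9, false), (13, false), (3, false), (16, false), (5, false), (6, false), (15, false), (10, false), (12, false), (17, false), (0, false), (19, false), (2, false), (8, false), (11, false), (20, false), (14, false), (4, false), (1, false), (18, false), (22, false), (21, false), (23, false)],
   [(1, false), (12, false), (18, false), (21, false), (2, false), (20, false), (4, false), (19, false), (17, false), (9, false), (10, false), (11, false), (15, false), (16, false), (14, false), (0, false), (5, false), (8, false), (6, false), (7, false), (13, false), (23, false), (3, false), (22, false)],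
   [(14, false), (8, false), (2, false), (19, false), (20, false), (5, false), (6, false), (22, false), (0, false), (3, false), (15, false), (23, false), (10, false), (13, false), (1, false), (17, false), (18, false), (12, false), (16, false), (21, false), (4, false), (9, false), (11, false), (7, false)],
   [(12, false), (15, false), (16, false), (8, false), (13, false), (20, false), (4, false), (9, false), (21, false), (7, false), (23, false), (19, false), (0, false), (18, false), (3, false), (1, false), (5, false), (22, false), (6, false), (11, false), (2, false), (14, false), (10, false), (17, false)],
   [(8, false), (10, false), (13, false), (12, false), (4, false), (5, false), (6, false), (3, false), (19, false), (21, false), (9, false), (22, false), (17, false), (2, false), (11, false), (14, false), (18, false), (7, false), (16, false), (23, false), (20, false), (1, false), (15, false), (0, false)],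
   [(14, false), (17, false), (18, false), (9, false), (6, false), (20, false), (4, false), (21, false), (15, false), (3, false), (12, false), (23, false), (10, false), (16, false), (0, false), (8, false), (13, false), (1, false), (2, false), (22, false), (5, false), (7, false), (19, false), (11, false)],
   [(1, false), (0, false), (2, false), (3, false), (16, false), (5, false), (6, false), (19, false), (10, false), (11, false), (8, false), (9, false), (15, false), (13, false), (17, false), (12, false), (4, false), (14, false), (20, false), (7, false), (18, false), (21, false), (22, false), (23, false)],
   [(21, false), (3, false), (2, false), (15, false), (18, false), (5, false), (6, false), (8, false), (19, false), (10, false), (11, false), (14, false), (22, false), (13, false), (9, false), (23, false), (20, false), (7, false), (4, false), (17, false), (16, false), (12, false), (0, false), (1, false)],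
   [(19, false), (11, false), (20, false), (10, false), (2, false), (18, false), (16, false), (12, false), (22, false), (15, false), (23, false), (1, false), (7, false), (4, false), (3, false), (9, false), (5, false), (21, false), (6, false), (0, false), (13, false), (8, false), (17, false), (14, false)],
   [(15, false), (0, false), (5, false), (17, false), (16, false), (13, false), (2, false), (9, false), (23, false), (19, false), (22, false), (7, false), (1, false), (6, false), (21, false), (12, false), (20, false), (3, false), (4, false), (11, false), (18, false), (14, false), (10, false), (8, false)],
   [(10, false), (17, false), (18, false), (0, false), (13, false), (4, false), (20, false), (3, false), (9, false), (22, false), (7, false), (21, false), (14, false), (16, false), (19, false), (8, false), (5, false), (11, false), (6, false), (23, false), (2, false), (1, false), (15, false), (12, false)],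
   [(0, false), (1, false), (2, false), (22, false), (20, false), (5, false), (6, false), (19, false), (14, false), (11, false), (17, false), (9, false), (12, false), (13, false), (8, false), (15, false), (18, false), (10, false), (16, false), (7, false), (4, false), (23, false), (3, false), (21, false)],
   [(17, false), (14, false), (20, false), (7, false), (5, false), (18, false), (16, false), (22, false), (1, false), (23, false), (0, false), (3, false), (8, false), (4, false), (12, false), (10, false), (2, false), (15, false), (13, false), (21, false), (6, false), (9, false), (11, false), (19, false)],
   [(10, false), (8, false), (5, false), (1, false), (20, false), (13, false), (2, false), (23, false), (7, false), (22, false), (11, false), (21, false), (14, false), (6, false), (9, false), (17, false), (16, false), (19, false), (18, false), (3, false), (4, false), (12, false), (0, false), (15, false)],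
   [(15, false), (12, false), (18, false), (14, false), (5, false), (4, false), (20, false), (9, false), (21, false), (7, false), (23, false), (19, false), (1, false), (16, false), (3, false), (0, false), (13, false), (22, false), (2, false), (11, false), (6, false), (8, false), (17, false), (10, false)],
   [(22, false), (23, false), (16, false), (7, false), (5, false), (20, false), (4, false), (14, false), (12, false), (17, false), (1, false), (8, false), (21, false), (18, false), (15, false), (3, false), (13, false), (0, false), (2, false), (10, false), (6, false), (11, false), (9, false), (19, false)],
   [(7, false), (9, false), (13, false), (21, false), (18, false), (5, false), (6, false), (1, false), (8, false), (0, false), (14, false), (12, false), (19, false), (2, false), (10, false), (11, false), (4, false), (17, false), (20, false), (15, false), (16, false), (23, false), (3, false), (22, false)],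
   [(1, false), (12, false), (18, false), (3, false), (13, false), (20, false), (4, false), (7, false), (14, false), (11, false), (8, false), (9, false), (15, false), (16, false), (17, false), (0, false), (6, false), (10, false), (5, false), (19, false), (2, false), (22, false), (21, false), (23, false)],
   [(14, false), (8, false), (2, false), (11, false), (4, false), (5, false), (6, false), (21, false), (1, false), (23, false), (12, false), (3, false), (10, false), (13, false), (0, false), (17, false), (16, false), (15, false), (18, false), (22, false), (20, false), (7, false), (19, false), (9, false)],
   [(12, false), (15, false), (16, false), (10, false), (2, false), (20, false), (4, false), (11, false), (3, false), (19, false), (22, false), (7, false), (0, false), (18, false), (21, false), (1, false), (6, false), (23, false), (5, false), (9, false), (13, false), (17, false), (8, false), (14, false)],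
   [(8, false), (10, false), (13, false), (15, false), (20, false), (5, false), (6, false), (23, false), (11, false), (22, false), (7, false), (21, false), (17, false), (2, false), (19, false), (14, false), (16, false), (9, false), (18, false), (3, false), (4, false), (0, false), (12, false), (1, false)],
   [(14, false), (17, false), (18, false), (19, false), (5, false), (20, false), (4, false), (22, false), (0, false), (23, false), (1, false), (3, false), (10, false), (16, false), (15, false), (8, false), (2, false), (12, false), (13, false), (21, false), (6, false), (11, false), (9, false), (7, false)],
   [(1, false), (0, false), (2, false), (22, false), (18, false), (5, false), (6, false), (7, false), (17, false), (9, false), (14, false), (11, false), (15, false), (13, false), (10, false), (12, false), (20, false), (8, false), (4, false), (19, false), (16, false), (23, false), (3, false), (21, false)],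
   [(21, false), (3, false), (2, false), (0, false), (16, false), (5, false), (6, false), (17, false), (9, false), (14, false), (7, false), (10, false), (22, false), (13, false), (19, false), (23, false), (4, false), (11, false), (20, false), (8, false), (18, false), (1, false), (15, false), (12, false)],
   [(19, false), (11, false), (20, false), (17, false), (13, false), (18, false), (16, false), (0, false), (3, false), (1, false), (21, false), (15, false), (7, false), (4, false), (22, false), (9, false), (6, false), (23, false), (5, false), (12, false), (2, false), (14, false), (10, false), (8, false)],
   [(15, false), (0, false), (5, false), (10, false), (18, false), (13, false), (2, false), (11, false), (21, false), (7, false), (3, false), (19, false), (1, false), (6, false), (23, false), (12, false), (4, false), (22, false), (20, false), (9, false), (16, false), (8, false), (17, false), (14, false)],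
   [(10, false), (17, false), (18, false), (15, false), (2, false), (4, false), (20, false), (23, false), (19, false), (21, false), (11, false), (22, false), (14, false), (16, false), (9, false), (8, false), (6, false), (7, false), (5, false), (3, false), (13, false), (12, false), (0, false), (1, false)]]

/-- The products of the other five. -/
def permTabsB : List (List (ℕ × Bool)) :=
  [[(0, false), (1, false), (2, false), (3, false), (4, false), (5, false), (6, false), (7, false), (8, false), (9, false), (10, false), (11, false), (12, false), (13, false), (14, false), (15, false), (16, false), (17, false), (18, false), (19, false), (20, false), (21, false), (22, false), (23, false)],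
   [(0, false), (1, false), (5, false), (21, false), (18, false), (2, false), (13, false), (7, false), (14, false), (9, false), (17, false), (11, false), (12, false), (6, false), (8, false), (15, false), (20, false), (10, false), (4, false), (19, false), (16, false), (3, false), (23, false), (22, false)],
   [(7, false), (11, false), (2, false), (8, false), (4, false), (5, false), (6, false), (0, false), (3, false), (15, false), (22, false), (1, false), (19, false), (13, false), (21, false), (9, false), (16, false), (23, false), (18, false), (12, false), (20, false), (14, false), (10, false), (17, false)],
   [(7, false), (11, false), (5, false), (14, false), (18, false), (2, false), (13, false), (0, false), (21, false), (15, false), (23, false), (1, false), (19, false), (6, false), (3, false), (9, false), (20, false), (22, false), (4, false), (12, false), (16, false), (8, false), (17, false), (10, false)],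
   [(0, false), (1, false), (13, false), (23, false), (20, false), (6, false), (5, false), (7, false), (17, false), (9, false), (14, false), (11, false), (12, false), (2, false), (10, false), (15, false), (18, false), (8, false), (16, false), (19, false), (4, false), (22, false), (21, false), (3, false)],
   [(0, false), (1, false), (6, false), (22, false), (16, false), (13, false), (2, false), (7, false), (10, false), (9, false), (8, false), (11, false), (12, false), (5, false), (17, false), (15, false), (4, false), (14, false), (20, false), (19, false), (18, false), (23, false), (3, false), (21, false)],
   [(7, false), (11, false), (13, false), (17, false), (20, false), (6, false), (5, false), (0, false), (23, false), (15, false), (21, false), (1, false), (19, false), (2, false), (22, false), (9, false), (18, false), (3, false), (16, false), (12, false), (4, false), (10, false), (14, false), (8, false)],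
   [(7, false), (11, false), (6, false), (10, false), (16, false), (13, false), (2, false), (0, false), (22, false), (15, false), (3, false), (1, false), (19, false), (5, false), (23, false), (9, false), (4, false), (21, false), (20, false), (12, false), (18, false), (17, false), (8, false), (14, false)],
   [(1, false), (0, false), (2, false), (21, false), (4, false), (5, false), (6, false), (11, false), (14, false), (19, false), (17, false), (7, false), (15, false), (13, false), (8, false), (12, false), (16, false), (10, false), (18, false), (9, false), (20, false), (3, false), (23, false), (22, false)],
   [(1, false), (0, false), (5, false), (3, false), (18, false), (2, false), (13, false), (11, false), (8, false), (19, false), (10, false), (7, false), (15, false), (6, false), (14, false), (12, false), (20, false), (17, false), (4, false), (9, false), (16, false), (21, false), (22, false), (23, false)],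
   [(11, false), (7, false), (2, false), (14, false), (4, false), (5, false), (6, false), (1, false), (21, false), (12, false), (23, false), (0, false), (9, false), (13, false), (3, false), (19, false), (16, false), (22, false), (18, false), (15, false), (20, false), (8, false), (17, false), (10, false)],
   [(11, false), (7, false), (5, false), (8, false), (18, false), (2, false), (13, false), (1, false), (3, false), (12, false), (22, false), (0, false), (9, false), (6, false), (21, false), (19, false), (20, false), (23, false), (4, false), (15, false), (16, false), (14, false), (10, false), (17, false)],
   [(1, false), (0, false), (13, false), (22, false), (20, false), (6, false), (5, false), (11, false), (10, false), (19, false), (8, false), (7, false), (15, false), (2, false), (17, false), (12, false), (18, false), (14, false), (16, false), (9, false), (4, false), (23, false), (3, false), (21, false)],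
   [(1, false), (0, false), (6, false), (23, false), (16, false), (13, false), (2, false), (11, false), (17, false), (19, false), (14, false), (7, false), (15, false), (5, false), (10, false), (12, false), (4, false), (8, false), (20, false), (9, false), (18, false), (22, false), (21, false), (3, false)],
   [(11, false), (7, false), (13, false), (10, false), (20, false), (6, false), (5, false), (1, false), (22, false), (12, false), (3, false), (0, false), (9, false), (2, false), (23, false), (19, false), (18, false), (21, false), (16, false), (15, false), (4, false), (17, false), (8, false), (14, false)],
   [(11, false), (7, false), (6, false), (17, false), (16, false), (13, false), (2, false), (1, false), (23, false), (12, false), (21, false), (0, false), (9, false), (5, false), (22, false), (19, false), (4, false), (3, false), (20, false), (15, false), (18, false), (10, false), (14, false), (8, false)],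
   [(12, false), (15, false), (2, false), (23, false), (4, false), (5, false), (6, false), (19, false), (17, false), (11, false), (14, false), (9, false), (0, false), (13, false), (10, false), (1, false), (16, false), (8, false), (18, false), (7, false), (20, false), (22, false), (21, false), (3, false)],
   [(12, false), (15, false), (5, false), (22, false), (18, false), (2, false), (13, false), (19, false), (10, false), (11, false), (8, false), (9, false), (0, false), (6, false), (17, false), (1, false), (20, false), (14, false), (4, false), (7, false), (16, false), (23, false), (3, false), (21, false)],
   [(19, false), (9, false), (2, false), (17, false), (4, false), (5, false), (6, false), (12, false), (23, false), (1, false), (21, false), (15, false), (7, false), (13, false), (22, false), (11, false), (16, false), (3, false), (18, false), (0, false), (20, false), (10, false), (14, false), (8, false)],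
   [(19, false), (9, false), (5, false), (10, false), (18, false), (2, false), (13, false), (12, false), (22, false), (1, false), (3, false), (15, false), (7, false), (6, false), (23, false), (11, false), (20, false), (21, false), (4, false), (0, false), (16, false), (17, false), (8, false), (14, false)],
   [(12, false), (15, false), (13, false), (3, false), (20, false), (6, false), (5, false), (19, false), (8, false), (11, false), (10, false), (9, false), (0, false), (2, false), (14, false), (1, false), (18, false), (17, false), (16, false), (7, false), (4, false), (21, false), (22, false), (23, false)],
   [(12, false), (15, false), (6, false), (21, false), (16, false), (13, false), (2, false), (19, false), (14, false), (11, false), (17, false), (9, false), (0, false), (5, false), (8, false), (1, false), (4, false), (10, false), (20, false), (7, false), (18, false), (3, false), (23, false), (22, false)],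
   [(19, false), (9, false), (13, false), (8, false), (20, false), (6, false), (5, false), (12, false), (3, false), (1, false), (22, false), (15, false), (7, false), (2, false), (21, false), (11, false), (18, false), (23, false), (16, false), (0, false), (4, false), (14, false), (10, false), (17, false)],
   [(19, false), (9, false), (6, false), (14, false), (16, false), (13, false), (2, false), (12, false), (21, false), (1, false), (23, false), (15, false), (7, false), (5, false), (3, false), (11, false), (4, false), (22, false), (20, false), (0, false), (18, false), (8, false), (17, false), (10, false)],
   [(15, false), (12, false), (2, false), (22, false), (4, false), (5, false), (6, false), (9, false), (10, false), (7, false), (8, false), (19, false), (1, false), (13, false), (17, false), (0, false), (16, false), (14, false), (18, false), (11, false), (20, false), (23, false), (3, false), (21, false)],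
   [(15, false), (12, false), (5, false), (23, false), (18, false), (2, false), (13, false), (9, false), (17, false), (7, false), (14, false), (19, false), (1, false), (6, false), (10, false), (0, false), (20, false), (8, false), (4, false), (11, false), (16, false), (22, false), (21, false), (3, false)],
   [(9, false), (19, false), (2, false), (10, false), (4, false), (5, false), (6, false), (15, false), (22, false), (0, false), (3, false), (12, false), (11, false), (13, false), (23, false), (7, false), (16, false), (21, false), (18, false), (1, false), (20, false), (17, false), (8, false), (14, false)],
   [(9, false), (19, false), (5, false), (17, false), (18, false), (2, false), (13, false), (15, false), (23, false), (0, false), (21, false), (12, false), (11, false), (6, false), (22, false), (7, false), (20, false), (3, false), (4, false), (1, false), (16, false), (10, false), (14, false), (8, false)],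
   [(15, false), (12, false), (13, false), (21, false), (20, false), (6, false), (5, false), (9, false), (14, false), (7, false), (17, false), (19, false), (1, false), (2, false), (8, false), (0, false), (18, false), (10, false), (16, false), (11, false), (4, false), (3, false), (23, false), (22, false)],
   [(15, false), (12, false), (6, false), (3, false), (16, false), (13, false), (2, false), (9, false), (8, false), (7, false), (10, false), (19, false), (1, false), (5, false), (14, false), (0, false), (4, false), (17, false), (20, false), (11, false), (18, false), (21, false), (22, false), (23, false)],
   [(9, false), (19, false), (13, false), (14, false), (20, false), (6, false), (5, false), (15, false), (21, false), (0, false), (23, false), (12, false), (11, false), (2, false), (3, false), (7, false), (18, false), (22, false), (16, false), (1, false), (4, false), (8, false), (17, false), (10, false)],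
   [(9, false), (19, false), (6, false), (8, false), (16, false), (13, false), (2, false), (15, false), (3, false), (0, false), (22, false), (12, false), (11, false), (5, false), (21, false), (7, false), (4, false), (23, false), (20, false), (1, false), (18, false), (14, false), (10, false), (17, false)]]

/-- The order of the 1024 permutation parts by code. -/
def sortIdx : List ℕ :=
  [0, 267, 16, 283, 803, 819, 680, 696, 299, 32, 315, 48, 176, 443, 160, 427, 411, 144, 395, 128, 915, 899, 536, 520, 648, 664, 771, 787, 568, 552, 947, 931, 430, 981, 446, 453, 950, 934, 717, 221, 286, 357, 270, 885, 1013, 398, 485, 414, 325, 318, 853, 302, 749, 253, 918, 902, 774, 790, 125, 621, 93, 589, 806, 822, 11, 256, 27, 272, 936, 952, 547, 563, 288, 43, 304, 59, 187, 432, 171, 416, 400, 155, 384, 139, 792, 776, 659, 643, 515, 531, 904, 920, 691, 675, 824, 808, 702, 709, 686, 213, 166, 182, 989, 461, 526, 117, 542, 613, 741, 670, 245, 654, 85, 558, 581, 574, 1021, 493, 134, 150, 22, 6, 365, 893, 333, 861, 54, 38, 343, 284, 268, 839, 948, 932, 639, 111, 316, 375, 871, 300, 999, 428, 444, 503, 396, 967, 471, 412, 772, 788, 207, 735, 607, 79, 916, 900, 239, 767, 804, 820, 201, 754, 729, 226, 465, 961, 506, 1002, 633, 66, 105, 594, 722, 233, 194, 761, 98, 601, 626, 73, 970, 474, 993, 497,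 865, 369, 842, 346, 378, 874, 337, 833, 494, 1022, 149, 133, 246, 653, 742, 669, 862, 334, 37, 53, 181, 165, 462, 990, 5, 21, 894, 366, 685, 214, 701, 710, 582, 573, 86, 557, 541, 614, 525, 118, 64, 592, 587, 91, 355, 1000, 883, 504, 619, 123, 96, 624, 752, 224, 251, 747, 219, 715, 720, 192, 979, 344, 451, 840, 968, 323, 472, 851, 376, 1011, 872, 483, 137, 153, 418, 434, 657, 938, 641, 954, 57, 41, 274, 258, 402, 386, 185, 169, 290, 306, 9, 25, 906, 689, 922, 673, 545, 794, 561, 778, 826, 513, 810, 529, 279, 263, 604, 76, 500, 831, 815, 996, 636, 108, 311, 295, 423, 439, 236, 764, 204, 732, 391, 407, 836, 911, 927, 340, 799, 468, 964, 783, 943, 868, 372, 959, 405, 389, 238, 766, 909, 502, 925, 998, 293, 309, 606, 78, 206, 734, 437, 421, 638, 110, 261, 277, 470, 941, 966, 957, 829, 838, 813, 342, 870, 797, 374, 781, 336, 832, 859, 331, 115, 760, 611, 232, 891, 363, 368, 864, 992, 496, 491, 1019, 459, 987, 960, 464, 707, 72, 211, 600, 728, 83, 200, 579, 104, 739, 632, 243, 178, 162, 409, 393, 682, 913, 698, 897, 2, 18, 297, 313, 425, 441, 130, 146, 281, 265, 50, 34, 945, 650, 929, 666, 538, 801, 522, 817, 769, 570, 785, 554, 519, 535, 844, 348, 228, 47, 63, 756, 876, 380, 551, 567, 695, 679, 508, 1004, 476, 972, 663, 647, 596, 159, 143, 68, 15, 196, 724, 31, 191, 628, 100,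 175, 843, 347, 320, 848, 744, 99, 248, 627, 352, 880, 875, 379, 507, 1003, 1008, 480, 976, 448, 475, 971, 88, 723, 584, 195, 67, 712, 595, 216, 755, 120, 227, 616, 254, 750, 901, 917, 486, 413, 1014, 397, 590, 94, 821, 805, 933, 949, 222, 718, 789, 773, 622, 126, 445, 454, 429, 982, 854, 301, 326, 317, 269, 886, 285, 358, 965, 958, 469, 942, 733, 205, 422, 438, 373, 782, 869, 798, 926, 997, 910, 501, 814, 341, 830, 837, 390, 406, 765, 237, 109, 637, 278, 262, 310, 294, 77, 605, 795, 528, 779, 512, 184, 168, 307, 291, 560, 827, 544, 811, 939, 672, 955, 688, 640, 907, 656, 923, 8, 24, 387, 403, 275, 259, 152, 136, 419, 435, 40, 56, 860, 332, 23, 7, 575, 244, 740, 559, 55, 39, 892, 364, 492, 1020, 167, 183, 135, 151, 460, 988, 655, 580, 84, 671, 212, 543, 527, 708, 612, 687, 703, 116, 921, 905, 690, 674, 385, 186, 401, 170, 809, 825, 514, 530, 642, 658, 937, 953, 562, 546, 793, 777, 154, 417, 138, 433, 305, 10, 289, 26, 42, 273, 58, 257, 725, 174, 197, 190, 973, 477, 694, 678, 101, 30, 629, 14, 142, 757, 158, 229, 62, 69, 46, 597, 662, 646, 1005, 509, 381, 877, 518, 534, 550, 566, 349, 845, 784, 539, 768, 523, 51, 35, 440, 424, 571, 816, 555, 800, 928, 683, 944, 699, 651, 896, 667, 912, 131, 147, 264, 280, 408, 392, 19, 3, 296, 312, 163, 179, 588, 92, 775, 791, 303, 484, 1012,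 319, 807, 823, 620, 124, 252, 748, 951, 935, 919, 903, 220, 716, 415, 852, 324, 399, 452, 271, 287, 980, 884, 447, 431, 356, 930, 946, 649, 665, 442, 129, 426, 145, 786, 770, 569, 553, 697, 681, 914, 898, 521, 537, 802, 818, 161, 410, 177, 394, 266, 49, 282, 33, 17, 298, 1, 314, 603, 75, 80, 576, 1016, 371, 488, 867, 112, 608, 635, 107, 235, 763, 736, 240, 704, 208, 203, 731, 328, 963, 856, 467, 339, 984, 835, 456, 995, 360, 499, 888, 645, 661, 510, 1006, 157, 230, 141, 758, 565, 549, 846, 350, 478, 974, 677, 693, 878, 382, 533, 517, 198, 189, 726, 173, 45, 598, 61, 70, 630, 13, 102, 29, 28, 87, 583, 12, 895, 367, 692, 676, 119, 60, 44, 615, 172, 743, 247, 188, 711, 140, 156, 215, 463, 991, 516, 532, 660, 644, 863, 335, 548, 564, 495, 1023, 473, 994, 969, 498, 193, 721, 234, 762, 873, 338, 377, 834, 962, 505, 466, 1001, 370, 841, 866, 345, 730, 202, 753, 225, 625, 97, 602, 74, 106, 634, 65, 593, 1010, 457, 482, 985, 746, 250, 705, 209, 322, 889, 850, 361, 489, 978, 1017, 450, 857, 354, 329, 882, 241, 737, 218, 714, 90, 586, 113, 609, 577, 81, 618, 122, 71, 524, 540, 599, 164, 180, 879, 383, 556, 103, 631, 572, 759, 700, 684, 231, 668, 727, 199, 652, 20, 4, 479, 975, 847, 351, 132, 148, 511, 1007, 52, 36, 738, 217, 242, 713, 1018, 490, 977, 449, 82, 617, 578, 121, 249, 706,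 745, 210, 585, 114, 89, 610, 481, 1009, 458, 986, 330, 858, 353, 881, 849, 321, 890, 362, 780, 327, 855, 796, 623, 127, 420, 436, 359, 812, 828, 887, 956, 1015, 487, 940, 983, 924, 908, 455, 223, 719, 276, 260, 388, 404, 591, 95, 308, 292, 255, 751]

/-- The basic code words as products of the sign generators. -/
def spanTab : List (List ℕ) :=
  [[11, 12, 14, 15, 19, 20, 21], [4], [8, 11, 12, 14, 16, 18, 20], [4, 11, 12, 14, 15, 18, 21], [4, 11, 12, 14, 15, 16, 19, 21], [12, 14, 21], [4, 8, 12, 14, 15, 18, 20], [8, 16, 18, 19, 20, 21], [4, 8, 17, 19], [8, 11, 12, 16], [8, 11, 12, 14, 15, 17, 18, 19, 20], [4, 14, 15, 18, 20]]

/-- A sequence of iterated commutators reaching the last term of the central series. -/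
def chainStart : ℕ := 4

/-- Its steps. -/
def chainSteps : List (ℕ × List ℕ) :=
  [(0, [8, 11]), (0, [11]), (1, [15, 17]), (0, [17, 18]), (2, [18, 20, 21]), (1, [20]), (0, [21])]

/-- A code word and a word carrying the standard one of its weight to it. -/
def fusO2 : ℕ × List ℕ := (322, [49])

/-- A code word and a word carrying the standard one of its weight to it. -/
def fusP2 : ℕ × List ℕ := (323, [56, 118])

/-- A code word and a word carrying the standard one of its weight to it. -/
def fusO4 : ℕ × List ℕ := (2048, [1])

/-- A code word and a word carrying the standard one of its weight to it. -/
def fusP4 : ℕ × List ℕ := (2049, [1, 7, 2, 118])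

/-- A code word and a word carrying the standard one of its weight to it. -/
def fusO0 : ℕ × List ℕ := (2674, [1, 2, 7, 2])

/-- A code word and a word carrying the standard one of its weight to it. -/
def fusT : ℕ × List ℕ := (1420, [1, 2, 83, 49, 7])

/-- A code word and a word carrying the standard one of its weight to it. -/
def fusO6 : ℕ × List ℕ := (1, [])

/-- A code word and a word carrying the standard one of its weight to it. -/
def fusP6 : ℕ × List ℕ := (12, [1, 83, 1])

/-- A code word and a word carrying the standard one of its weight to it. -/
def fusD2 : ℕ × List ℕ := (2054, [1])

/-- A code word and a word carrying the standard one of its weight to it. -/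
def fusQ2 : ℕ × List ℕ := (2059, [3, 41, 2])

/-- A code word and a word carrying the standard one of its weight to it. -/
def fusND : ℕ × List ℕ := (4082, [2, 91, 91])

/-- The key of the standard octad. -/
def octKey : ℕ := 1

/-- The key of the standard dodecad. -/
def dodKey : ℕ := 13

/-- An element squaring to the negative. -/
def rootWord : List ℕ := [2, 1055]

/-- Anticommuting pairs commuting with the standard involutions. -/
def antiOct : List ℕ × List ℕ := ([1514], [7, 2, 41, 7, 56, 105, 176, 176, 191, 135])

/-- The dodecad pair. -/
def antiDod : List ℕ × List ℕ := ([371], [7, 1, 2, 49, 7, 66, 83, 91, 135, 118, 176, 176, 135])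

/-- The pair for the root. -/
def antiRoot : List ℕ × List ℕ := ([135, 41, 2, 105, 41, 191, 66, 118, 91, 83, 176, 105, 105, 176, 176, 191, 163, 135, 260], [2147])

/-- The tables of the generators. -/
def genTabs : List (List (ℕ × Bool)) :=
  [[(17, false), (14, false), (20, false), (11, false), (6, false), (18, false), (16, false), (21, false), (12, false), (3, false), (15, false), (23, false), (8, false), (4, false), (1, false), (10, false), (13, false), (0, false), (2, false), (22, false), (5, false), (19, false), (7, false), (9, false)],
   [(10, false), (8, false), (5, false), (0, false), (4, false), (13, false), (2, false), (3, false), (9, false), (21, false), (19, false), (22, false), (14, false), (6, false), (7, false), (17, false), (18, false), (11, false), (16, false), (23, false), (20, false), (15, false), (1, false), (12, false)],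
   [(22, false), (23, false), (16, false), (9, false), (6, false), (20, false), (4, false), (10, false), (15, false), (8, false), (0, false), (17, false), (21, false), (18, false), (12, false), (3, false), (2, false), (1, false), (13, false), (14, false), (5, false), (19, false), (7, false), (11, false)],
   [(12, false), (15, false), (16, false), (8, false), (13, false), (20, false), (4, false), (9, false), (21, false), (7, false), (23, false), (19, false), (0, false), (18, false), (3, false), (1, false), (5, false), (22, false), (6, false), (11, false), (2, false), (14, false), (10, false), (17, false)],
   [(0, false), (1, true), (2, false), (3, false), (4, false), (5, false), (6, false), (7, false), (8, false), (9, false), (10, false), (11, false), (12, true), (13, true), (14, true), (15, true), (16, true), (17, false), (18, false), (19, true), (20, false), (21, false), (22, true), (23, false)],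
   [(0, false), (1, false), (2, false), (22, false), (20, false), (5, false), (6, false), (19, false), (14, false), (11, false), (17, false), (9, false), (12, false), (13, false), (8, false), (15, false), (18, false), (10, false), (16, false), (7, false), (4, false), (23, false), (3, false), (21, false)],
   [(0, false), (1, false), (5, false), (21, false), (18, false), (2, false), (13, false), (7, false), (14, false), (9, false), (17, false), (11, false), (12, false), (6, false), (8, false), (15, false), (20, false), (10, false), (4, false), (19, false), (16, false), (3, false), (23, false), (22, false)],
   [(7, false), (11, false), (2, false), (8, false), (4, false), (5, false), (6, false), (0, false), (3, false), (15, false), (22, false), (1, false), (19, false), (13, false), (21, false), (9, false), (16, false), (23, false), (18, false), (12, false), (20, false), (14, false), (10, false), (17, false)],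
   [(0, false), (1, false), (2, false), (3, false), (4, true), (5, false), (6, false), (7, true), (8, true), (9, false), (10, true), (11, false), (12, true), (13, false), (14, false), (15, true), (16, true), (17, false), (18, false), (19, true), (20, false), (21, false), (22, false), (23, false)],
   [(0, false), (1, false), (13, false), (23, false), (20, false), (6, false), (5, false), (7, false), (17, false), (9, false), (14, false), (11, false), (12, false), (2, false), (10, false), (15, false), (18, false), (8, false), (16, false), (19, false), (4, false), (22, false), (21, false), (3, false)],
   [(1, false), (0, false), (2, false), (21, false), (4, false), (5, false), (6, false), (11, false), (14, false), (19, false), (17, false), (7, false), (15, false), (13, false), (8, false), (12, false), (16, false), (10, false), (18, false), (9, false), (20, false), (3, false), (23, false), (22, false)],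
   [(0, false), (1, false), (2, false), (3, false), (4, true), (5, false), (6, true), (7, true), (8, false), (9, false), (10, false), (11, false), (12, false), (13, true), (14, false), (15, false), (16, true), (17, false), (18, false), (19, true), (20, false), (21, true), (22, true), (23, false)],
   [(0, false), (1, false), (2, false), (3, false), (4, true), (5, false), (6, true), (7, true), (8, true), (9, false), (10, true), (11, true), (12, true), (13, true), (14, true), (15, true), (16, false), (17, true), (18, true), (19, false), (20, false), (21, false), (22, false), (23, false)],
   [(12, false), (15, false), (2, false), (23, false), (4, false), (5, false), (6, false), (19, false), (17, false), (11, false), (14, false), (9, false), (0, false), (13, false), (10, false), (1, false), (16, false), (8, false), (18, false), (7, false), (20, false), (22, false), (21, false), (3, false)],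
   [(0, true), (1, true), (2, false), (3, true), (4, true), (5, true), (6, true), (7, false), (8, false), (9, true), (10, false), (11, false), (12, false), (13, false), (14, true), (15, false), (16, false), (17, true), (18, false), (19, true), (20, true), (21, false), (22, true), (23, false)],
   [(0, false), (1, true), (2, true), (3, false), (4, false), (5, false), (6, false), (7, false), (8, false), (9, true), (10, false), (11, true), (12, false), (13, true), (14, false), (15, true), (16, true), (17, false), (18, true), (19, false), (20, false), (21, false), (22, false), (23, false)],
   [(0, false), (1, false), (2, false), (3, false), (4, true), (5, false), (6, false), (7, true), (8, false), (9, true), (10, false), (11, true), (12, false), (13, false), (14, false), (15, false), (16, true), (17, false), (18, true), (19, true), (20, true), (21, false), (22, false), (23, false)],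
   [(0, false), (1, true), (2, true), (3, false), (4, false), (5, true), (6, true), (7, true), (8, false), (9, false), (10, true), (11, false), (12, false), (13, true), (14, true), (15, true), (16, false), (17, false), (18, false), (19, true), (20, false), (21, true), (22, true), (23, false)],
   [(0, false), (1, false), (2, true), (3, true), (4, true), (5, true), (6, true), (7, true), (8, false), (9, true), (10, false), (11, true), (12, false), (13, true), (14, false), (15, false), (16, true), (17, false), (18, true), (19, true), (20, true), (21, true), (22, true), (23, true)],
   [(0, false), (1, false), (2, true), (3, false), (4, true), (5, true), (6, true), (7, false), (8, false), (9, false), (10, false), (11, false), (12, false), (13, true), (14, false), (15, false), (16, true), (17, false), (18, true), (19, false), (20, true), (21, false), (22, false), (23, false)],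
   [(0, true), (1, true), (2, false), (3, false), (4, false), (5, false), (6, false), (7, true), (8, false), (9, true), (10, false), (11, true), (12, true), (13, false), (14, false), (15, true), (16, false), (17, false), (18, false), (19, true), (20, false), (21, false), (22, false), (23, false)],
   [(0, true), (1, true), (2, false), (3, true), (4, false), (5, false), (6, false), (7, true), (8, true), (9, true), (10, true), (11, true), (12, true), (13, false), (14, true), (15, true), (16, false), (17, true), (18, false), (19, true), (20, false), (21, true), (22, true), (23, true)]]

end Cfsg.Agent.Co0Std
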