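import Cfsg.Agent.Co0Std.AllFused
import Cfsg.Agent.S2069
import Cfsg.Agent.Leech.SchurCo1
import Cfsg.Agent.Invol.RankOneQuot
import Cfsg.Prelude.Def_Local

/-!
A standard subgroup isomorphic to `Co₀` whose centraliser has cyclic Sylow 2-subgroups is normal.
-/

set_option autoImplicit false

namespace Cfsg.Agent.Co0Std

open Cfsg Cfsg.Agent.Leech
open scoped commutatorElement

/-- An automorphism of `Co₀` is inner. -/
theorem exists_inner (φ : Co0 ≃* Co0) : ∃ a, ∀ g, φ g = a * g * a⁻¹ := by
  set Z := Subgroup.center Co0 with hZ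
  have hmap : Z.map φ.toMonoidHom = Z := by
    ext x
    simp only [Subgroup.mem_map, hZ, Subgroup.mem_center_iff, MulEquiv.coe_toMonoidHom]
    constructor
    · rintro ⟨y, hy, rfl⟩ g
      obtain ⟨g, rfl⟩ := φ.surjective g
      rw [← map_mul, ← map_mul, hy]
    · intro hx
      refine ⟨φ.symm x, fun g => φ.injective ?_, φ.apply_symm_apply x⟩
      rw [map_mul, map_mul, φ.apply_symm_apply, hx]
  let φb : MulAut Spor.Co1 := QuotientGroup.congr Z Z φ hmap
  obtain ⟨hs, -⟩ := Nat.card_eq_one_iff_unique.mp Cfsg.Agent.S2069.result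
  obtain ⟨ab, hab⟩ : φb ∈ Inn Spor.Co1 :=
    (QuotientGroup.eq_one_iff φb).mp (Subsingleton.elim _ _)
  obtain ⟨a, rfl⟩ := QuotientGroup.mk'_surjective Z ab
  refine ⟨a, ?_⟩
  have hc : ∀ g, φ g * (a * g * a⁻¹)⁻¹ ∈ Z := fun g => by
    have h := DFunLike.congr_fun hab (QuotientGroup.mk' Z g)
    rw [MulAut.conj_apply, ← map_inv, ← map_mul, ← map_mul] at h
    rw [← QuotientGroup.eq_one_iff]
    show QuotientGroup.mk' Z (φ g * (a * g * a⁻¹)⁻¹) = 1
    rw [map_mul, map_inv, h]
    exact mul_inv_eq_one.mpr rfl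
  let χ : Co0 →* Co0 :=
    { toFun := fun g => φ g * (a * g * a⁻¹)⁻¹
      map_one' := by simp
      map_mul' := fun g h => by
        have := Subgroup.mem_center_iff.mp (hc h) (a * g * a⁻¹)⁻¹
        calc φ (g * h) * (a * (g * h) * a⁻¹)⁻¹
            = φ g * ((φ h * (a * h * a⁻¹)⁻¹) * (a * g * a⁻¹)⁻¹) := by rw [map_mul]; group
          _ = φ g * ((a * g * a⁻¹)⁻¹ * (φ h * (a * h * a⁻¹)⁻¹)) := by rw [this]
          _ = _ := by group }
  have htop : commutator Co0 ≤ χ.ker := by
    rw [commutator_def, Subgroup.commutator_le]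
    intro g _ h _
    rw [MonoidHom.mem_ker, map_commutatorElement, commutatorElement_eq_one_iff_mul_comm]
    exact (Subgroup.mem_center_iff.mp (hc g) _).symm
  intro g
  exact mul_inv_eq_one.mp (htop (commutator_co0 ▸ Subgroup.mem_top g) : χ g = 1)

theorem normal_of_standard {G : Type*} [Group G] [Finite G] (hO : Cfsg.oddCore G = ⊥)
    (A : Subgroup G) (hA : Cfsg.IsStandardSubgroup A) (hAX : Nonempty (↥A ≃* ↥Cfsg.Co0))
    (hR : ∀ R : Sylow 2 ↥(Subgroup.centralizer (A : Set G)),
      IsCyclic ↥(R : Subgroup ↥(Subgroup.centralizer (A : Set G)))) : A.Normal := by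
  obtain ⟨e⟩ := hAX
  obtain ⟨-, ⟨-, htight⟩, -, hNC⟩ := hA
  set ι : Co0 →* G := A.subtype.comp e.symm.toMonoidHom with hι
  have hrange : ι.range = A := by
    ext x
    constructor
    · rintro ⟨a, rfl⟩; exact (e.symm a).2
    · intro hx
      exact ⟨e ⟨x, hx⟩, by simp [hι]⟩
  have hinj : Function.Injective ι := A.subtype_injective.comp e.symm.injective
  have hzC : ι negCo0 ∈ Subgroup.centralizer (A : Set G) := by
    rw [← hrange]; exact ι_neg_mem_cent
  have hz1 : ι negCo0 ≠ 1 := fun h => negCo0_ne_one (hinj (h.trans (map_one ι).symm))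
  have hz2 : orderOf (ι negCo0) = 2 :=
    orderOf_eq_prime (by rw [sq]; exact ι_neg_mul_self) hz1
  -- the centraliser of the involution normalises the copy
  have hnorm : ∀ x : G, x * ι negCo0 = ι negCo0 * x →
      x ∈ Subgroup.normalizer (A : Set G) := by
    intro x hx
    rw [hNC]
    by_contra hn
    have hmem : ι negCo0 ∈ Subgroup.centralizer (A : Set G) ⊓
        (Subgroup.centralizer (A : Set G)).map (MulAut.conj x).toMonoidHom :=
      ⟨hzC, ι negCo0, hzC, show x * ι negCo0 * x⁻¹ = ι negCo0 by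
        rw [hx, mul_inv_cancel_right]⟩
    have hdvd := Subgroup.orderOf_dvd_natCard _ hmem
    rw [hz2] at hdvd
    exact (Nat.not_even_iff_odd.mpr (htight x hn)) (even_iff_two_dvd.mpr hdvd)
  have S : Std ι := by
    refine ⟨hinj, ?_, ?_⟩
    · rw [hrange]; exact hR
    · intro x hx
      have hxA := Subgroup.mem_normalizer_iff.mp (hnorm x hx)
      let φ : Co0 →* Co0 :=
        { toFun := fun g => e ⟨x * ι g * x⁻¹, (hxA _).mp (hrange.le ⟨g, rfl⟩)⟩
          map_one' := by
            rw [← map_one e]; congr 1; exact Subtype.ext (by simp)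
          map_mul' := fun g h => by
            rw [← map_mul e]; congr 1; exact Subtype.ext (by simp [mul_assoc]) }
      have hval : ∀ g, ι (φ g) = x * ι g * x⁻¹ := fun g => by
        show A.subtype (e.symm (e _)) = _
        rw [e.symm_apply_apply]; rfl
      have := finite_Co0
      have hbij : Function.Bijective φ := by
        refine (Finite.injective_iff_bijective).mp fun g h hgh => hinj ?_
        have := congrArg ι hgh
        rw [hval, hval] at this
        exact mul_left_cancel (mul_right_cancel this)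
      obtain ⟨a, ha⟩ := exists_inner (MulEquiv.ofBijective φ hbij)
      refine ⟨a, ?_⟩
      rintro _ ⟨g, rfl⟩
      have h1 : x * ι g * x⁻¹ = ι a * ι g * (ι a)⁻¹ := by
        rw [← hval, show φ g = a * g * a⁻¹ from ha g, map_mul, map_mul, map_inv]
      calc ι g * ((ι a)⁻¹ * x) = (ι a)⁻¹ * (ι a * ι g * (ι a)⁻¹) * x := by group
        _ = (ι a)⁻¹ * (x * ι g * x⁻¹) * x := by rw [h1]
        _ = (ι a)⁻¹ * x * ι g := by group
  rcases S.fused_cases with hone | hall
  · have hiso : Invol.IsIsolatedInv (ι negCo0) := by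
      refine ⟨hz2, fun g hc => ?_⟩
      by_contra hne
      obtain ⟨b, hb⟩ := S.mem_range hc hne
      rw [hone b (isConj_iff.mpr ⟨g, hb⟩)] at hb
      exact hne hb
    refine Subgroup.normalizer_eq_top_iff.mp (eq_top_iff.mpr fun x _ => hnorm x ?_)
    have h := Invol.zStar_theorem G (ι negCo0) hiso x
    rw [show pPrimeCore 2 G = ⊥ from hO, Subgroup.mem_bot,
      commutatorElement_eq_one_iff_mul_comm] at h
    exact h.symm
  · exact (S.not_all_fused hall).elim

end Cfsg.Agent.Co0Std
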